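import Cfsg.Agent.H835.P4.Sim
import Cfsg.Agent.H417.P4.RkCq
import Cfsg.Agent.H779.G2.Stmts3

/-!
# S5211, statement `StU2` (helper910)

From `H835.P4.reduce` (Sylow subgroups in a simple normal subgroup of a quotient), S4749 and `H417.P4.concl_of_cq`.
-/

set_option autoImplicit false

namespace Cfsg.Agent.H910.G2

open Subgroup Cfsg Cfsg.Agent Cfsg.Agent.H835.P4 Cfsg.Agent.H417.P4 Cfsg.Agent.H367.PU
open scoped Pointwise

universe u

/-- the exceptional orders -/
theorem spor_false {L : Type*} [Group L] [Finite L] {p m : ℕ} [hp : Fact p.Prime] (h : EA p m L)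
    (hd : Nat.card L ∣ (p ^ m) ^ 4 * ((p ^ m) ^ 2 - 1) * ((p ^ m) ^ 4 - 1))
    (hL : (p = 5 ∧ (Nat.card L = 17971200 ∨ Nat.card L = 898128000)) ∨
      (p = 11 ∧ Nat.card L = 86775571046077562880)) : False := by
  rcases hL with ⟨rfl, hL | hL⟩ | ⟨rfl, hL⟩
  · have h1 : m = 2 := by
      apply le_antisymm
      · apply h.ge_of
        rw [hL]
        norm_num
      · apply h.le_of
        rw [hL]
        norm_num
    subst h1
    rw [hL] at hd
    norm_num at hd
  · have h1 : m = 3 := by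
      apply le_antisymm
      · apply h.ge_of
        rw [hL]
        norm_num
      · apply h.le_of
        rw [hL]
        norm_num
    subst h1
    rw [hL] at hd
    norm_num at hd
  · have h1 : m = 3 := by
      apply le_antisymm
      · apply h.ge_of
        rw [hL]
        norm_num
      · apply h.le_of
        rw [hL]
        norm_num
    subst h1
    rw [hL] at hd
    norm_num at hd

/-- **Simple groups with elementary abelian TI Sylow `p`-subgroups of order `p^m`, `m ≥ 2`, `p ≥ 5`.** -/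
theorem sim5 (hT : TISt.{u}) {L : Type u} [Group L] [Finite L] [IsSimpleGroup L]
    (hna : ¬ IsMulCommutative L) {p m : ℕ} [hp : Fact p.Prime] (hp5 : 5 ≤ p) (hm : 2 ≤ m) (h : EA p m L)
    (hd : Nat.card L ∣ (p ^ m) ^ 4 * ((p ^ m) ^ 2 - 1) * ((p ^ m) ^ 4 - 1)) :
    ∃ (F : Type) (_ : Field F) (_ : Fintype F), Fintype.card F = p ^ m ∧
      Nonempty (L ≃* Matrix.ProjectiveSpecialLinearGroup (Fin 2) F) := by
  obtain ⟨P⟩ : Nonempty (Sylow p L) := inferInstance
  have hTI : ∀ g : L, g ∉ Subgroup.normalizer ((P : Subgroup L) : Set L) →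
      (P : Subgroup L) ⊓ (MulAut.conj g • (P : Subgroup L)) = ⊥ := by
    intro g hg
    rw [eq_bot_iff]
    rintro x ⟨hx1, hx2⟩
    rw [mem_bot]
    by_contra hne
    apply hg
    refine Sylow.smul_eq_iff_mem_normalizer.1 ?_
    exact (h.ti.sylow_eq (P := g • P) (Q := P) hx2 hx1 hne)
  rcases hT hna p P hTI (h.not_cyclic hm P) with ⟨F, _, _, n, hn, hF, ⟨e⟩⟩ | ⟨F, _, _, n, hn, hF, ⟨e⟩⟩ | ⟨h2, hL⟩ |
    ⟨h3, hL⟩ | ⟨h5, hL⟩ | ⟨h11, hL⟩
  · -- `n = m`
    refine ⟨F, inferInstance, inferInstance, ?_, ⟨e⟩⟩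
    have h1 := ClassicalGeometry.PSL2Basic.card_PSL2_gcd (F := F)
    rw [← Nat.card_congr e.toEquiv, hF] at h1
    have hpn : p ∣ p ^ n := dvd_pow_self p (by omega)
    have hq : 1 < p ^ n := Nat.one_lt_pow (by omega) hp.out.one_lt
    have hcop : ¬ p ∣ (p ^ n) ^ 2 - 1 := by
      intro h2
      have h3 : p ∣ (p ^ n) ^ 2 := hpn.trans (dvd_pow_self _ two_ne_zero)
      have h4 : 1 ≤ (p ^ n) ^ 2 := Nat.one_le_pow _ _ (by omega)
      have h5 := Nat.dvd_sub h3 h2
      rw [Nat.sub_sub_self h4] at h5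
      exact hp.out.one_lt.ne' (Nat.dvd_one.1 h5)
    have hcop2 : ¬ p ∣ Nat.gcd 2 (p ^ n - 1) := by
      intro h2
      have h3 := h2.trans (Nat.gcd_dvd_right _ _)
      have h5 := Nat.dvd_sub hpn h3
      rw [Nat.sub_sub_self (by omega)] at h5
      exact hp.out.one_lt.ne' (Nat.dvd_one.1 h5)
    have hmn : m = n := by
      apply le_antisymm
      · apply h.ge_of
        intro h2
        have h3 : p ^ n * p ∣ p ^ n * ((p ^ n) ^ 2 - 1) := by
          rw [← h1, ← pow_succ]
          exact h2.mul_right _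
        exact hcop ((Nat.mul_dvd_mul_iff_left (by omega)).1 h3)
      · apply h.le_of
        have h3 : p ^ n ∣ Nat.card L * Nat.gcd 2 (p ^ n - 1) := by
          rw [h1]
          exact dvd_mul_right _ _
        exact Nat.Coprime.dvd_of_dvd_mul_right (Nat.Coprime.pow_left _ ((Nat.Prime.coprime_iff_not_dvd hp.out).2 hcop2)) h3
    rw [hmn]
    exact hF
  · exact (psu_false hF hn (h.congr e)).elim
  · omega
  · omega
  · exact (spor_false h hd (Or.inl ⟨h5, hL.imp (fun h => h.2) (fun h => h.2)⟩)).elim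
  · exact (spor_false h hd (Or.inr ⟨h11, hL.2⟩)).elim

/-- **`StU2`** from S4076 (`OutSt`) and S4749 (`TISt`). The transitivity of the normalizer is not needed. -/
theorem stU2_of (hO : OutSt.{u}) (hT : TISt.{u}) : Cfsg.Agent.H779.G2.StU2.{u} := by
  intro G _ _ p n hp P hp5 hn hTI hnn hP hex hc _ hd
  set L : Subgroup G := Subgroup.normalClosure ((P : Subgroup G) : Set G) with hLdef
  have hPL : (P : Subgroup G) ≤ L := Subgroup.subset_normalClosure
  let P0 : Sylow p L := P.subtype hPL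
  have hP0 : ∀ x : L, x ∈ (P0 : Subgroup L) ↔ (x : G) ∈ (P : Subgroup G) := fun x => Iff.rfl
  have hTI0 : ∀ g : L, g ∉ Subgroup.normalizer ((P0 : Subgroup L) : Set L) → ∀ x ∈ (P0 : Subgroup L),
      g * x * g⁻¹ ∈ (P0 : Subgroup L) → x = 1 := by
    intro g hg x hx hgx
    apply Subtype.ext
    refine hTI g ?_ x hx hgx
    intro hgn
    apply hg
    rw [Subgroup.mem_normalizer_iff] at hgn ⊢
    intro y
    exact hgn y
  -- `P` is not normal in `L`
  have hnn0 : ¬ (P0 : Subgroup L).Normal := by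
    intro hno
    apply hnn
    have hsub : Subsingleton (Sylow p L) := by
      have := Sylow.unique_of_normal P0 hno
      infer_instance
    refine ⟨fun x hx g => ?_⟩
    have hgP : ((g • P : Sylow p G) : Subgroup G) ≤ L := by
      rintro _ ⟨y, hy, rfl⟩
      exact Subgroup.normalClosure_normal.conj_mem _ (hPL hy) g
    have h1 : (g • P : Sylow p G).subtype hgP = P0 := Subsingleton.elim _ _
    have h2 : g * x * g⁻¹ ∈ ((g • P : Sylow p G) : Subgroup G) := ⟨x, hx, rfl⟩
    have h3 : (⟨g * x * g⁻¹, hgP h2⟩ : L) ∈ ((g • P : Sylow p G).subtype hgP : Sylow p L) := h2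
    rw [h1] at h3
    exact h3
  have hP0c : Nat.card P0 = p ^ n := by
    rw [← hP]
    exact Nat.card_congr (Subgroup.subgroupOfEquivOfLe hPL).toEquiv
  obtain ⟨N, hNn, hN, L', hLn, hLs, hLna, hLP, hEA, hdvd, -⟩ := reduce hO P0 hn hTI0 hnn0 hP0c
    (fun x hx y hy => Subtype.ext (hc x hx y hy)) (fun x hx => Subtype.ext (hex x hx))
  obtain ⟨F, _, _, hF, ⟨e⟩⟩ := sim5 hT hLna hp5 hn hEA (hdvd.trans hd)
  have hr : (L'.subtype.comp e.symm.toMonoidHom).range = L' := by
    rw [MonoidHom.range_comp, MonoidHom.range_eq_top.2 e.symm.surjective, ← MonoidHom.range_eq_map,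
      Subgroup.range_subtype]
  have hcon : Concl n P0 := concl_of_cq P0 (by omega) hF hN (L'.subtype.comp e.symm.toMonoidHom)
    (L'.subtype_injective.comp e.symm.injective) (by rw [hr]; exact hLP)
  have hrL : ∀ Q : Sylow p G, (Q : Subgroup G) ≤ L.subtype.range := by
    intro Q
    rw [Subgroup.range_subtype]
    obtain ⟨g, rfl⟩ := MulAction.exists_smul_eq G P Q
    rintro _ ⟨y, hy, rfl⟩
    exact Subgroup.normalClosure_normal.conj_mem y (hPL hy) g
  have hconG : Concl n P := Concl.of_inj L.subtype L.subtype_injective hrL hcon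
  have hout := hconG.out
  have hP1 : ∃ x ∈ (P : Subgroup G), x ≠ 1 := by
    by_contra hcon
    push Not at hcon
    have h1 : (P : Subgroup G) = ⊥ := (Subgroup.eq_bot_iff_forall _).2 hcon
    have h2 : Nat.card (P : Subgroup G) = 1 := by rw [h1, Subgroup.card_bot]
    have h3 : p ^ n = 1 := hP.symm.trans h2
    have h4 : 1 < p ^ n := Nat.one_lt_pow (by omega) hp.out.one_lt
    omega
  refine ⟨hout.1, ?_, ?_⟩
  · intro P' hP'
    obtain ⟨x, hx, hx1⟩ := hP1
    obtain ⟨y, hy, h1, h2⟩ := hout.2.1 P' hP' x hx hx1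
    exact ⟨x, y, hx, hx1, hy, h1, h2⟩
  · -- another Sylow subgroup of `L`
    obtain ⟨P', hP'⟩ : ∃ P' : Sylow p L, P' ≠ P0 := by
      by_contra hcon
      push Not at hcon
      apply hnn0
      refine ⟨fun x hx g => ?_⟩
      have h1 : g • P0 = P0 := hcon _
      have h2 : ((g • P0 : Sylow p L) : Subgroup L) = P0 := by rw [h1]
      rw [← h2]
      exact ⟨x, hx, rfl⟩
    obtain ⟨h, h1, -, h3⟩ := hcon.tor P' hP'
    refine ⟨h, ?_, h.2, ?_⟩
    · have h4 := Sylow.smul_eq_iff_mem_normalizer.1 h1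
      have hmem : ∀ g : L, g • P0 = P0 → ∀ y ∈ (P : Subgroup G), (g : G) * y * (g : G)⁻¹ ∈ (P : Subgroup G) := by
        intro g hg y hy
        have h5 : ((g • P0 : Sylow p L) : Subgroup L) = P0 := by rw [hg]
        have h6 : g * ⟨y, hPL hy⟩ * g⁻¹ ∈ ((g • P0 : Sylow p L) : Subgroup L) := ⟨⟨y, hPL hy⟩, hy, rfl⟩
        rw [h5] at h6
        exact h6
      rw [Subgroup.mem_normalizer_iff]
      intro y
      constructor
      · exact hmem h h1 y
      · intro hy
        have h5 : h⁻¹ • P0 = P0 := by rw [inv_smul_eq_iff, h1]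
        have h6 := hmem h⁻¹ h5 _ hy
        have e1 : ((h⁻¹ : L) : G) * ((h : G) * y * (h : G)⁻¹) * ((h⁻¹ : L) : G)⁻¹ = y := by
          rw [Subgroup.coe_inv]
          group
        rwa [e1] at h6
    · intro k hk hk2 x hx hx1 hcomm
      apply hx1
      have h5 := h3 k hk (by rw [if_neg (by omega)]; omega) ⟨x, hPL hx⟩ hx ?_
      · exact congrArg Subtype.val h5
      · apply Subtype.ext
        show (h : G) ^ k * x = x * (h : G) ^ k
        exact mul_inv_eq_iff_eq_mul.1 hcomm

end Cfsg.Agent.H910.G2
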